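import Cfsg.Agent.H604.Sax.Tops
import Cfsg.Agent.J2Type.ThreeF
import Cfsg.Agent.H466.RealLift
import Cfsg.Agent.KFacts.J2.Facts
import Cfsg.Agent.S1619
import Cfsg.Agent.FastGrp
import Cfsg.Agent.Prune
set_option linter.all false
prune_inst 0x7ffdfdfbbffcffffffff7e7ffffddffffdfa7fffffdffbcbffecefff4fdf4b8efbe5fbaf9febd1ff5ef7e29e30f87bd3fbfffeffee6bdc7ffffd5ff45ffbffcffdf7bd8871ff9cbe0fbc6fffe3f07f8e7f3fffffffffffffffffffffffffffbeffffffffffff
open scoped Cfsg.Agent.FastGrp

-- part: H395/PFJ2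
section
/-!
# Proper subgroups of `J2` miss a prime: the 3-local configuration (helper395, for `S3522`)

`Cfg X` : `X` has commuting elements `a`, `b` of order 3 with `b ∉ ⟨a⟩`, `a ~ b` and `a b ~ a⁻¹ b`.
`J2` has no such elements, `A7`, `A8`, `L4(2)`, `L3(4)` have.
-/

set_option autoImplicit false

namespace Cfsg.Agent.H395.PF

open Subgroup Cfsg.Agent.J2Type.Base

universe u

/-- the configuration -/
structure Cf {X : Type*} [Group X] (a b : X) : Prop where
  ha : orderOf a = 3
  hb : orderOf b = 3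
  comm : a * b = b * a
  ne : b ∉ zpowers a
  c1 : IsConj a b
  c2 : IsConj (a * b) (a⁻¹ * b)

def Cfg (X : Type*) [Group X] : Prop := ∃ a b : X, Cf a b

theorem Cf.map {X Y : Type*} [Group X] [Group Y] {a b : X} (h : Cf a b) (f : X →* Y) (hf : Function.Injective f) :
    Cf (f a) (f b) where
  ha := by rw [orderOf_injective f hf, h.ha]
  hb := by rw [orderOf_injective f hf, h.hb]
  comm := by rw [← map_mul, h.comm, map_mul]
  ne := by
    intro h1
    apply h.ne
    obtain ⟨k, hk⟩ := mem_zpowers_iff.1 h1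
    exact mem_zpowers_iff.2 ⟨k, hf (by rw [map_zpow, hk])⟩
  c1 := f.map_isConj h.c1
  c2 := by
    have h1 := f.map_isConj h.c2
    rwa [map_mul, map_mul, map_inv] at h1

theorem Cfg.map {X Y : Type*} [Group X] [Group Y] (h : Cfg X) (f : X →* Y) (hf : Function.Injective f) : Cfg Y := by
  obtain ⟨a, b, h⟩ := h
  exact ⟨f a, f b, h.map f hf⟩

theorem pow_three {X : Type*} [Group X] {a : X} (ha : orderOf a = 3) : a ^ 3 = 1 := by
  rw [← ha, pow_orderOf_eq_one]

theorem isPGroup_sup {X : Type*} [Group X] {a b : X} (ha : orderOf a = 3) (hb : orderOf b = 3)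
    (hab : a * b = b * a) : IsPGroup 3 (zpowers a ⊔ zpowers b : Subgroup X) := by
  have h1 : IsPGroup 3 (zpowers a) := IsPGroup.of_card (n := 1) (by rw [Nat.card_zpowers, ha, pow_one])
  have h2 : IsPGroup 3 (zpowers b) := IsPGroup.of_card (n := 1) (by rw [Nat.card_zpowers, hb, pow_one])
  refine IsPGroup.to_sup_of_normal_right' h1 h2 ?_
  rw [zpowers_le, mem_normalizer_iff]
  have key : ∀ w : X, w ∈ zpowers b → a * w * a⁻¹ = w := by
    intro w hw
    obtain ⟨j, rfl⟩ := mem_zpowers_iff.1 hw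
    have h5 : Commute a (b ^ j) := (show Commute a b from hab).zpow_right j
    rw [h5.eq, mul_inv_cancel_right]
  intro w
  constructor
  · intro hw
    rw [key w hw]; exact hw
  · intro hw
    obtain ⟨j, hj⟩ := mem_zpowers_iff.1 hw
    have h5 : Commute a (b ^ j) := (show Commute a b from hab).zpow_right j
    have h6 : w = b ^ j := by
      calc w = a⁻¹ * (a * w * a⁻¹) * a := by group
        _ = a⁻¹ * b ^ j * a := by rw [hj]
        _ = b ^ j := by rw [mul_assoc, ← h5.eq, inv_mul_cancel_left]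
    rw [h6]
    exact zpow_mem (mem_zpowers b) j

/-- the configuration lifts to a group from its quotient by a normal subgroup of order prime to 3 -/
theorem Cfg.of_quotient {R : Type*} [Group R] [Finite R] (O : Subgroup R) [O.Normal] (h3 : ¬ 3 ∣ Nat.card O)
    (h : Cfg (R ⧸ O)) : Cfg R := by
  have : Fact (Nat.Prime 3) := ⟨by norm_num⟩
  obtain ⟨a', b', h⟩ := h
  obtain ⟨Q, hQ⟩ := (isPGroup_sup h.ha h.hb h.comm).exists_le_sylow
  obtain ⟨P, hP⟩ := Sylow.mapSurjective_surjective (QuotientGroup.mk'_surjective O) 3 Q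
  have hPQ : (P : Subgroup R).map (QuotientGroup.mk' O) = (Q : Subgroup (R ⧸ O)) := by
    rw [← hP]; rfl
  have haQ : a' ∈ (P : Subgroup R).map (QuotientGroup.mk' O) := by
    rw [hPQ]; exact hQ ((le_sup_left : zpowers a' ≤ _) (mem_zpowers a'))
  have hbQ : b' ∈ (P : Subgroup R).map (QuotientGroup.mk' O) := by
    rw [hPQ]; exact hQ ((le_sup_right : zpowers b' ≤ _) (mem_zpowers b'))
  obtain ⟨a, haP, ha⟩ := haQ
  obtain ⟨b, hbP, hb⟩ := hbQ
  have cop : ∀ x : R, x ^ 3 = 1 → (orderOf x).Coprime (Nat.card O) := by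
    intro x hx
    have h1 : orderOf x ∣ 3 := orderOf_dvd_of_pow_eq_one hx
    exact Nat.Coprime.coprime_dvd_left h1 ((Nat.Prime.coprime_iff_not_dvd (by norm_num)).2 h3)
  have key : ∀ x ∈ (P : Subgroup R), QuotientGroup.mk' O x = 1 → x = 1 := by
    intro x hx h1
    have h2 : x ∈ O := (QuotientGroup.eq_one_iff x).1 h1
    obtain ⟨k, hk⟩ := IsPGroup.iff_orderOf.1 P.isPGroup' ⟨x, hx⟩
    rw [Subgroup.orderOf_mk] at hk
    have h4 : orderOf x ∣ Nat.card O := Subgroup.orderOf_dvd_natCard O h2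
    rw [hk] at h4
    have h5 : k = 0 := by
      by_contra h0
      exact h3 ((dvd_pow_self 3 h0).trans h4)
    rw [h5, pow_zero] at hk
    exact orderOf_eq_one_iff.1 hk
  have e3 : ∀ x ∈ (P : Subgroup R), (QuotientGroup.mk' O x) ^ 3 = 1 → x ^ 3 = 1 := by
    intro x hx h1
    exact key _ ((P : Subgroup R).pow_mem hx 3) (by rw [map_pow, h1])
  have ha3 : a ^ 3 = 1 := e3 a haP (by rw [ha, pow_three h.ha])
  have hb3 : b ^ 3 = 1 := e3 b hbP (by rw [hb, pow_three h.hb])
  have hne : ∀ {x : R} {y : R ⧸ O}, QuotientGroup.mk' O x = y → orderOf y = 3 → x ^ 3 = 1 → orderOf x = 3 := by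
    intro x y hxy hy hx
    refine orderOf_eq_prime hx ?_
    rintro rfl
    rw [map_one] at hxy
    rw [← hxy, orderOf_one] at hy
    omega
  have hcomm : a * b = b * a := by
    have h1 := key (a * b * a⁻¹ * b⁻¹)
      ((P : Subgroup R).mul_mem ((P : Subgroup R).mul_mem ((P : Subgroup R).mul_mem haP hbP)
        ((P : Subgroup R).inv_mem haP)) ((P : Subgroup R).inv_mem hbP)) (by
        rw [map_mul, map_mul, map_mul, map_inv, map_inv, ha, hb, h.comm]; group)
    calc a * b = (a * b * a⁻¹ * b⁻¹) * (b * a) := by group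
      _ = b * a := by rw [h1, one_mul]
  have hC : Commute a b := hcomm
  refine ⟨a, b, hne ha h.ha ha3, hne hb h.hb hb3, hcomm, ?_, ?_, ?_⟩
  · intro h1
    apply h.ne
    obtain ⟨k, hk⟩ := mem_zpowers_iff.1 h1
    exact mem_zpowers_iff.2 ⟨k, by rw [← ha, ← hb, ← hk, map_zpow]⟩
  · refine H466.RealLift.isConj_of_quotient O (cop _ ha3) (cop _ hb3) ?_
    show IsConj (QuotientGroup.mk' O a) (QuotientGroup.mk' O b)
    rw [ha, hb]
    exact h.c1
  · refine H466.RealLift.isConj_of_quotient O (cop _ ?_) (cop _ ?_) ?_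
    · rw [hC.mul_pow, ha3, hb3, one_mul]
    · rw [(hC.inv_left).mul_pow, inv_pow, ha3, hb3, inv_one, one_mul]
    · show IsConj (QuotientGroup.mk' O (a * b)) (QuotientGroup.mk' O (a⁻¹ * b))
      rw [map_mul, map_mul, map_inv, ha, hb]
      exact h.c2

/-- the configuration in a quotient -/
theorem cfg_quot {X : Type*} [Group X] (Z : Subgroup X) [hZ : Z.Normal] {A B W : X} (h3 : A * A * A = 1)
    (hWA : W * A = B * W) (hWB : A * (W * B) = W) (hc : (A * B)⁻¹ * (B * A) ∈ Z) (h0 : A ∉ Z) (h1 : A⁻¹ * B ∉ Z)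
    (h2 : A * B ∉ Z) : Cfg (X ⧸ Z) := by
  have ha : orderOf (QuotientGroup.mk' Z A) = 3 := by
    have : Fact (Nat.Prime 3) := ⟨by norm_num⟩
    refine orderOf_eq_prime ?_ ?_
    · rw [← map_pow, show A ^ 3 = 1 by rw [pow_succ, pow_two]; exact h3, map_one]
    · intro h
      exact h0 ((QuotientGroup.eq_one_iff A).1 h)
  have hB : B = W * A * W⁻¹ := by rw [hWA]; group
  have hconj : IsConj (QuotientGroup.mk' Z A) (QuotientGroup.mk' Z B) :=
    (QuotientGroup.mk' Z).map_isConj (isConj_iff.2 ⟨W, hB.symm⟩)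
  have hcomm : QuotientGroup.mk' Z A * QuotientGroup.mk' Z B = QuotientGroup.mk' Z B * QuotientGroup.mk' Z A := by
    rw [← map_mul, ← map_mul]
    exact QuotientGroup.eq.2 hc
  have hb : orderOf (QuotientGroup.mk' Z B) = 3 := by
    obtain ⟨g, hg⟩ := isConj_iff.1 hconj
    rw [← hg, show QuotientGroup.mk' Z A = QuotientGroup.mk' Z A from rfl,
      ← MulAut.conj_apply, MulEquiv.orderOf_eq, ha]
  refine ⟨QuotientGroup.mk' Z A, QuotientGroup.mk' Z B, ha, hb, hcomm, ?_, hconj, ?_⟩
  · intro h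
    rcases J2Type.ThreeF.mem_zpowers_three ha h with h4 | h4 | h4
    · rw [h4, orderOf_one] at hb
      omega
    · exact h1 (QuotientGroup.eq.1 h4.symm)
    · apply h2
      rw [← map_inv] at h4
      have h5 := QuotientGroup.eq.1 h4.symm
      rwa [inv_inv] at h5
  · have h6 : IsConj (QuotientGroup.mk' Z (A * B)) (QuotientGroup.mk' Z (B * A⁻¹)) := by
      refine (QuotientGroup.mk' Z).map_isConj (isConj_iff.2 ⟨W, ?_⟩)
      have h7 : W * B = A⁻¹ * W := eq_inv_mul_of_mul_eq hWB
      calc W * (A * B) * W⁻¹ = (W * A) * B * W⁻¹ := by group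
        _ = B * (W * B) * W⁻¹ := by rw [hWA]; group
        _ = B * A⁻¹ := by rw [h7]; group
    rw [map_mul, map_mul, map_inv] at h6
    have h8 : QuotientGroup.mk' Z B * (QuotientGroup.mk' Z A)⁻¹ = (QuotientGroup.mk' Z A)⁻¹ * QuotientGroup.mk' Z B := by
      have h9 : Commute (QuotientGroup.mk' Z B) (QuotientGroup.mk' Z A) := hcomm.symm
      exact h9.inv_right.eq
    rwa [h8] at h6

/-- `J2` does not contain the configuration, abstract form -/
theorem not_cfg_of {G : Type*} [Group G] [Finite G] {P : Sylow 3 G} {d f : G} (h27 : Nat.card P = 27)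
    (hd : orderOf d = 3) (hdP : d ∈ (P : Subgroup G)) (hPd : (P : Subgroup G) ≤ centralizer ({d} : Set G))
    (hZ : ∀ x ∈ (P : Subgroup G), (∀ y ∈ (P : Subgroup G), x * y = y * x) → x ∈ zpowers d)
    (hf : ∀ x ∈ (P : Subgroup G), x ∉ zpowers d → IsConj f x) (h1 : ¬ IsConj f d) (h2 : ¬ IsConj f d⁻¹) :
    ¬ Cfg G := by
  have : Fact (Nat.Prime 3) := ⟨by norm_num⟩
  rintro ⟨a0, b0, h0⟩
  obtain ⟨Q, hQ⟩ := (isPGroup_sup h0.ha h0.hb h0.comm).exists_le_sylow
  obtain ⟨g, hg⟩ := MulAction.exists_smul_eq G Q P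
  have hgP : ∀ x ∈ (Q : Subgroup G), MulAut.conj g x ∈ (P : Subgroup G) := by
    intro x hx
    rw [← hg]
    exact ⟨x, hx, rfl⟩
  have haP := hgP a0 (hQ ((le_sup_left : zpowers a0 ≤ _) (mem_zpowers a0)))
  have hbP := hgP b0 (hQ ((le_sup_right : zpowers b0 ≤ _) (mem_zpowers b0)))
  have h := h0.map (MulAut.conj g).toMonoidHom (MulAut.conj g).injective
  change Cf (MulAut.conj g a0) (MulAut.conj g b0) at h
  set a := MulAut.conj g a0
  set b := MulAut.conj g b0
  clear_value a b
  have hC : Commute a b := h.comm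
  -- the elements of `⟨d⟩` are not conjugate to the others
  have tr : ∀ x ∈ (P : Subgroup G), ∀ y ∈ (P : Subgroup G), x ≠ 1 → IsConj x y → x ∈ zpowers d → y ∈ zpowers d := by
    intro x _ y hy hx1 hxy hxd
    by_contra hyd
    have h3 := (hf y hy hyd).trans hxy.symm
    rcases J2Type.ThreeF.mem_zpowers_three hd hxd with h4 | h4 | h4
    · exact hx1 h4
    · exact h1 (h4 ▸ h3)
    · exact h2 (h4 ▸ h3)
  have ha1 : a ≠ 1 := by
    intro h3
    have h4 := h.ha
    rw [h3, orderOf_one] at h4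
    omega
  have hb1 : b ≠ 1 := by
    intro h3
    have h4 := h.hb
    rw [h3, orderOf_one] at h4
    omega
  have both : ¬ (a ∈ zpowers d ∧ b ∈ zpowers d) := by
    rintro ⟨h3, h4⟩
    apply h.ne
    have h5 : zpowers a = zpowers d := by
      apply Subgroup.eq_of_le_of_card_ge (zpowers_le.2 h3)
      rw [Nat.card_zpowers, Nat.card_zpowers, h.ha, hd]
    rw [h5]
    exact h4
  have hna : a ∉ zpowers d := fun h3 => both ⟨h3, tr a haP b hbP ha1 h.c1 h3⟩
  have hnb : b ∉ zpowers d := fun h3 => both ⟨tr b hbP a haP hb1 h.c1.symm h3, h3⟩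
  have ha3 := pow_three h.ha
  have hb3 := pow_three h.hb
  have hai : a⁻¹ = a ^ 2 := by rw [inv_eq_iff_mul_eq_one, ← pow_succ']; exact ha3
  have hab_ne : a * b ≠ 1 := by
    intro h3
    apply h.ne
    rw [show b = a⁻¹ from (inv_eq_of_mul_eq_one_right h3).symm]
    exact inv_mem (mem_zpowers a)
  have hab'_ne : a⁻¹ * b ≠ 1 := by
    intro h3
    apply h.ne
    rw [show b = a from (inv_mul_eq_one.1 h3).symm]
    exact mem_zpowers a
  have both' : ¬ (a * b ∈ zpowers d ∧ a⁻¹ * b ∈ zpowers d) := by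
    rintro ⟨h3, h4⟩
    have h5 : b ∈ zpowers d := by
      have h6 : (a * b) * (a⁻¹ * b) = b ^ 2 := by
        calc (a * b) * (a⁻¹ * b) = (b * a) * (a⁻¹ * b) := by rw [h.comm]
          _ = b ^ 2 := by rw [pow_two]; group
      have h7 : b = (b ^ 2) ^ 2 := by
        rw [← pow_mul, show 2 * 2 = 3 + 1 by norm_num, pow_add, hb3, one_mul, pow_one]
      rw [h7, ← h6]
      exact pow_mem (mul_mem h3 h4) 2
    exact hnb h5
  have hPab := (P : Subgroup G).mul_mem haP hbP
  have hPab' := (P : Subgroup G).mul_mem ((P : Subgroup G).inv_mem haP) hbP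
  have hnab : a * b ∉ zpowers d := fun h3 => both' ⟨h3, tr _ hPab _ hPab' hab_ne h.c2 h3⟩
  have hnab' : a⁻¹ * b ∉ zpowers d := fun h3 => both' ⟨tr _ hPab' _ hPab hab'_ne h.c2.symm h3, h3⟩
  -- the centralizer of `a` in `P`
  set C : Subgroup G := (P : Subgroup G) ⊓ centralizer ({a} : Set G) with hCdef
  have hCP : C ≤ (P : Subgroup G) := inf_le_left
  have hCne : C ≠ (P : Subgroup G) := by
    intro h3
    apply hna
    refine hZ a haP fun y hy => ?_
    rw [← h3, hCdef] at hy
    exact (mem_centralizer_singleton_iff.1 hy.2).symm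
  have hC9 : Nat.card C ≤ 9 := by
    have h3 : Nat.card C ∣ 3 ^ 3 := by
      rw [show (3 : ℕ) ^ 3 = 27 by norm_num, ← h27]
      exact Subgroup.card_dvd_of_le hCP
    obtain ⟨k, hk, hk'⟩ := (Nat.dvd_prime_pow Nat.prime_three).1 h3
    have h4 : k ≠ 3 := by
      intro h5
      apply hCne
      apply Subgroup.eq_of_le_of_card_ge hCP
      rw [hk', h5]
      exact h27.le
    rw [hk']
    calc 3 ^ k ≤ 3 ^ 2 := Nat.pow_le_pow_right (by norm_num) (by omega)
      _ = 9 := by norm_num
  have haC : a ∈ C := ⟨haP, mem_centralizer_singleton_iff.2 rfl⟩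
  have hbC : b ∈ C := ⟨hbP, mem_centralizer_singleton_iff.2 h.comm.symm⟩
  have hdC : d ∈ C := ⟨hdP, mem_centralizer_singleton_iff.2 (mem_centralizer_singleton_iff.1 (hPd haP)).symm⟩
  have hdis : ∀ x : G, x ∈ zpowers a → x ∈ zpowers b → x = 1 := by
    intro x hxa hxb
    by_contra hx
    apply h.ne
    have h3 : zpowers x = zpowers b := by
      apply Subgroup.eq_of_le_of_card_ge (zpowers_le.2 hxb)
      rw [Nat.card_zpowers, Nat.card_zpowers, h.hb]
      have h4 := orderOf_dvd_of_mem_zpowers hxb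
      rw [h.hb] at h4
      rcases (Nat.dvd_prime Nat.prime_three).1 h4 with h5 | h5
      · exact absurd (orderOf_eq_one_iff.1 h5) hx
      · exact h5.ge
    have h4 : b ∈ zpowers x := by rw [h3]; exact mem_zpowers b
    exact (zpowers_le.2 hxa) h4
  let φ : Fin 3 × Fin 3 → C := fun p => ⟨a ^ (p.1 : ℕ) * b ^ (p.2 : ℕ), C.mul_mem (C.pow_mem haC _) (C.pow_mem hbC _)⟩
  have hφ : Function.Injective φ := by
    rintro ⟨i, j⟩ ⟨k, l⟩ h3
    have h4 : a ^ (i : ℕ) * b ^ (j : ℕ) = a ^ (k : ℕ) * b ^ (l : ℕ) := congrArg Subtype.val h3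
    have h5 : a ^ ((i : ℤ) - k) = b ^ ((l : ℤ) - j) := by
      rw [zpow_sub, zpow_sub, zpow_natCast, zpow_natCast, zpow_natCast, zpow_natCast]
      have h6 : Commute (a ^ (k : ℕ)) (a ^ (i : ℕ)) := (Commute.refl a).pow_pow _ _
      calc a ^ (i : ℕ) * (a ^ (k : ℕ))⁻¹ = (a ^ (k : ℕ))⁻¹ * a ^ (i : ℕ) := (h6.inv_left.eq).symm
        _ = (a ^ (k : ℕ))⁻¹ * (a ^ (i : ℕ) * b ^ (j : ℕ)) * (b ^ (j : ℕ))⁻¹ := by group
        _ = (a ^ (k : ℕ))⁻¹ * (a ^ (k : ℕ) * b ^ (l : ℕ)) * (b ^ (j : ℕ))⁻¹ := by rw [h4]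
        _ = b ^ (l : ℕ) * (b ^ (j : ℕ))⁻¹ := by group
    have h6 : a ^ ((i : ℤ) - k) = 1 := hdis _ (zpow_mem (mem_zpowers a) _) (by
      rw [h5]; exact zpow_mem (mem_zpowers b) _)
    have h7 : b ^ ((l : ℤ) - j) = 1 := by rw [← h5]; exact h6
    have h8 := orderOf_dvd_iff_zpow_eq_one.2 h6
    have h9 := orderOf_dvd_iff_zpow_eq_one.2 h7
    rw [h.ha] at h8
    rw [h.hb] at h9
    have hi := i.2; have hj := j.2; have hk := k.2; have hl := l.2
    ext
    · show (i : ℕ) = k
      omega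
    · show (j : ℕ) = l
      omega
  have hφb : Function.Bijective φ := hφ.bijective_of_nat_card_le (by
    rw [Nat.card_prod, Nat.card_fin]; exact hC9)
  obtain ⟨⟨i, j⟩, hij⟩ := hφb.2 ⟨d, hdC⟩
  have hij' : a ^ (i : ℕ) * b ^ (j : ℕ) = d := congrArg Subtype.val hij
  have hd1 : d ≠ 1 := by
    intro h3
    rw [h3, orderOf_one] at hd
    omega
  have hsq : ∀ x : G, x ^ 3 = 1 → x ^ 2 = d → x ∈ zpowers d := by
    intro x hx hxd
    have h7 : x = (x ^ 2) ^ 2 := by
      rw [← pow_mul, show 2 * 2 = 3 + 1 by norm_num, pow_add, hx, one_mul, pow_one]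
    rw [h7, hxd]
    exact pow_mem (mem_zpowers d) 2
  have hab3 : (a * b) ^ 3 = 1 := by rw [hC.mul_pow, ha3, hb3, one_mul]
  have hab'3 : (a⁻¹ * b) ^ 3 = 1 := by rw [(hC.inv_left).mul_pow, inv_pow, ha3, hb3, inv_one, one_mul]
  fin_cases i <;> fin_cases j <;> simp only [pow_zero, pow_one, one_mul, mul_one] at hij'
  · exact hd1 (by simpa using hij'.symm)
  · exact hnb (by rw [← hij']; simp)
  · exact hnb (hsq b hb3 (by simpa using hij'))
  · exact hna (by rw [← hij']; simp)
  · exact hnab (by rw [← hij']; simp)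
  · apply hnab'
    apply hsq _ hab'3
    rw [(hC.inv_left).mul_pow, ← hij']
    rw [hai, ← pow_mul, show 2 * 2 = 3 + 1 by norm_num, pow_add, ha3, one_mul, pow_one]
  · exact hna (hsq a ha3 (by simpa using hij'))
  · apply hnab'
    rw [← hij', hai]
    exact mem_zpowers _
  · exact hnab (hsq _ hab3 (by rw [hC.mul_pow]; simpa using hij'))

theorem not_cfg {G : Type*} [Group G] [Finite G] {z u : G} (h : Fus z u) : ¬ Cfg G := by
  have : Fact (Nat.Prime 3) := ⟨by norm_num⟩
  obtain ⟨f, U, V, H0, F⟩ := J2Type.CentU.main h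
  obtain ⟨d, hd, hdV, hdH⟩ := J2Type.ThreeA.exists_d h F
  obtain ⟨P, hPd, hfP, hdP⟩ := J2Type.ThreeF.exists_sylow h F hd hdH
  obtain ⟨-, hZ, -⟩ := J2Type.ThreeF.structure_P h F hd hdH hPd hfP hdP
  have hcl := (J2Type.ThreeF.card_normalizer h F hd hdV hdH hPd hfP hdP).2
  have hG := J2Type.Order.card_of_fus h
  have h27 := J2Type.ThreeF.card_sylow_three hG P
  have h1 : ¬ IsConj f d := by
    intro hab
    have := J2Type.Cent5.card_centralizer_of_isConj hab
    rw [J2Type.ThreeD.card_centralizer_d h F hd hdH, J2Type.ThreeD.card_centralizer_f h F hd hdH] at this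
    norm_num at this
  refine not_cfg_of h27 hd hdP hPd hZ hcl h1 fun h2 => ?_
  have h3 : IsConj d d⁻¹ := J2Type.ThreeF.real3 h hd (hdH z (F.U_le F.zU))
  exact h1 (h2.trans h3.symm)

end Cfsg.Agent.H395.PF
end

-- part: H395/PFJ2Cfg
section
/-!
# The configuration in `A7`, `A8`, `L4(2)`, `L3(4)` (helper395, for `S3522`)
-/

set_option autoImplicit false
set_option maxRecDepth 100000

namespace Cfsg.Agent.H395.PF

open Subgroup Equiv Matrix

universe u

/-! ### alternating groups -/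

theorem cfg_alt {n : ℕ} (a b w : Perm (Fin n)) (ha : a ∈ alternatingGroup (Fin n)) (hb : b ∈ alternatingGroup (Fin n))
    (hw : w ∈ alternatingGroup (Fin n)) (ha3 : a ^ 3 = 1) (ha1 : a ≠ 1) (h1 : b ≠ 1) (h2 : b ≠ a) (h3 : a * b ≠ 1)
    (hab : a * b = b * a) (hwa : w * a = b * w) (hwb : a * (w * b) = w) : Cfg (alternatingGroup (Fin n)) := by
  have : Fact (Nat.Prime 3) := ⟨by norm_num⟩
  have hbe : (⟨w, hw⟩ : alternatingGroup (Fin n)) * ⟨a, ha⟩ * (⟨w, hw⟩)⁻¹ = ⟨b, hb⟩ := by
    apply Subtype.ext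
    show w * a * w⁻¹ = b
    rw [hwa]; group
  have hoa : orderOf (⟨a, ha⟩ : alternatingGroup (Fin n)) = 3 :=
    orderOf_eq_prime (Subtype.ext ha3) fun h => ha1 (congrArg Subtype.val h)
  have hconj : IsConj (⟨a, ha⟩ : alternatingGroup (Fin n)) ⟨b, hb⟩ := isConj_iff.2 ⟨⟨w, hw⟩, hbe⟩
  have hob : orderOf (⟨b, hb⟩ : alternatingGroup (Fin n)) = 3 := by
    rw [← hbe, ← MulAut.conj_apply, MulEquiv.orderOf_eq, hoa]
  refine ⟨⟨a, ha⟩, ⟨b, hb⟩, hoa, hob, Subtype.ext hab, ?_, hconj, ?_⟩
  · intro h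
    rcases J2Type.ThreeF.mem_zpowers_three hoa h with h4 | h4 | h4
    · exact h1 (congrArg Subtype.val h4)
    · exact h2 (congrArg Subtype.val h4)
    · apply h3
      have h5 : b = a⁻¹ := congrArg Subtype.val h4
      rw [h5, mul_inv_cancel]
  · refine isConj_iff.2 ⟨⟨w, hw⟩, ?_⟩
    apply Subtype.ext
    show w * (a * b) * w⁻¹ = a⁻¹ * b
    have h7 : w * b = a⁻¹ * w := eq_inv_mul_of_mul_eq hwb
    have h9 : Commute b a := hab.symm
    calc w * (a * b) * w⁻¹ = (w * a) * b * w⁻¹ := by group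
      _ = b * (w * b) * w⁻¹ := by rw [hwa]; group
      _ = b * a⁻¹ := by rw [h7]; group
      _ = a⁻¹ * b := h9.inv_right.eq

theorem cfg_a7 : Cfg (alternatingGroup (Fin 7)) := by
  refine cfg_alt c[(0 : Fin 7), 1, 2] c[(3 : Fin 7), 4, 5] (c[(0 : Fin 7), 3] * c[(1 : Fin 7), 4, 2, 5]) ?_ ?_ ?_ ?_ ?_ ?_ ?_ ?_ ?_ ?_ ?_
  · exact Perm.mem_alternatingGroup.2 (by decide +kernel)
  · exact Perm.mem_alternatingGroup.2 (by decide +kernel)
  · exact Perm.mem_alternatingGroup.2 (by decide +kernel)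
  all_goals decide +kernel

theorem cfg_a8 : Cfg (alternatingGroup (Fin 8)) := by
  refine cfg_alt c[(0 : Fin 8), 1, 2] c[(3 : Fin 8), 4, 5] (c[(0 : Fin 8), 3] * c[(1 : Fin 8), 4, 2, 5]) ?_ ?_ ?_ ?_ ?_ ?_ ?_ ?_ ?_ ?_ ?_
  · exact Perm.mem_alternatingGroup.2 (by decide +kernel)
  · exact Perm.mem_alternatingGroup.2 (by decide +kernel)
  · exact Perm.mem_alternatingGroup.2 (by decide +kernel)
  all_goals decide +kernel

/-! ### linear groups -/

theorem not_center_off {n : ℕ} {F : Type*} [Field F] {X : Matrix.SpecialLinearGroup (Fin n) F} {i j : Fin n}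
    (hij : i ≠ j) (h : X.1 i j ≠ 0) : X ∉ Subgroup.center (Matrix.SpecialLinearGroup (Fin n) F) := by
  intro hX
  obtain ⟨r, -, hr⟩ := Matrix.SpecialLinearGroup.mem_center_iff.1 hX
  apply h
  rw [← hr, Matrix.scalar_apply, Matrix.diagonal_apply_ne _ hij]

theorem not_center_diag {n : ℕ} {F : Type*} [Field F] {X : Matrix.SpecialLinearGroup (Fin n) F} {i j : Fin n}
    (h : X.1 i i ≠ X.1 j j) : X ∉ Subgroup.center (Matrix.SpecialLinearGroup (Fin n) F) := by
  intro hX
  obtain ⟨r, -, hr⟩ := Matrix.SpecialLinearGroup.mem_center_iff.1 hX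
  apply h
  rw [← hr, Matrix.scalar_apply, Matrix.diagonal_apply_eq, Matrix.diagonal_apply_eq]

section three

variable {F : Type*} [Field F]

def MA (w : F) : Matrix (Fin 3) (Fin 3) F := !![1, 0, 0; 0, w, 0; 0, 0, w ^ 2]
def MB (F : Type*) [Field F] : Matrix (Fin 3) (Fin 3) F := !![0, 0, 1; 1, 0, 0; 0, 1, 0]
def MW (w : F) : Matrix (Fin 3) (Fin 3) F := !![1, 1, 1; 1, w ^ 2, w; 1, w, w ^ 2]
def MC (w : F) : Matrix (Fin 3) (Fin 3) F := !![w ^ 2, 0, 0; 0, w ^ 2, 0; 0, 0, w ^ 2]

attribute [-instance] instNoNatZeroDivisorsOfIsAddTorsionFree instIsCharPOfIsLeftCancelAddOfCharP in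
theorem det_MA {w : F} (hw : w ^ 2 + w + 1 = 0) : (MA w).det = 1 := by
  unfold MA
  rw [Matrix.det_fin_three]
  simp only [_root_.Fin.isValue, _root_.Matrix.of_apply, _root_.Matrix.cons_val', _root_.Matrix.cons_val_zero, _root_.Matrix.cons_val_fin_one, _root_.Matrix.cons_val_one, _root_.one_mul, _root_.Matrix.cons_val, _root_.MulZeroClass.mul_zero, _root_.sub_zero, _root_.MulZeroClass.zero_mul, _root_.add_zero]
  grobner

theorem det_MB : (MB F).det = 1 := by
  unfold MB
  rw [Matrix.det_fin_three]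
  simp

attribute [-instance] instNoNatZeroDivisorsOfIsAddTorsionFree instIsCharPOfIsLeftCancelAddOfCharP in
theorem det_MW {w : F} (hw : w ^ 2 + w + 1 = 0) (h2 : (2 : F) = 0) : (MW w).det = 1 := by
  unfold MW
  rw [Matrix.det_fin_three]
  simp only [_root_.Fin.isValue, _root_.Matrix.of_apply, _root_.Matrix.cons_val', _root_.Matrix.cons_val_zero, _root_.Matrix.cons_val_fin_one, _root_.Matrix.cons_val_one, _root_.one_mul, _root_.Matrix.cons_val, _root_.mul_one]
  grobner

attribute [-instance] instNoNatZeroDivisorsOfIsAddTorsionFree instIsCharPOfIsLeftCancelAddOfCharP in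
theorem det_MC {w : F} (hw : w ^ 2 + w + 1 = 0) : (MC w).det = 1 := by
  unfold MC
  rw [Matrix.det_fin_three]
  simp only [_root_.Fin.isValue, _root_.Matrix.of_apply, _root_.Matrix.cons_val', _root_.Matrix.cons_val_zero, _root_.Matrix.cons_val_fin_one, _root_.Matrix.cons_val_one, _root_.Matrix.cons_val, _root_.MulZeroClass.mul_zero, _root_.sub_zero, _root_.MulZeroClass.zero_mul, _root_.add_zero]
  grobner

attribute [-instance] instNoNatZeroDivisorsOfIsAddTorsionFree instIsCharPOfIsLeftCancelAddOfCharP in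
theorem MA_cube {w : F} (hw : w ^ 2 + w + 1 = 0) : MA w * MA w * MA w = 1 := by
  unfold MA
  ext i j
  (revert i j; simp only [Matrix.mul_apply, Fin.sum_univ_three, _root_.Fin.forall_fin_succ, _root_.Matrix.cons_mul, _root_.Nat.succ_eq_add_one, Nat.reduceAdd, _root_.Matrix.vecMul_cons, _root_.Matrix.head_cons, _root_.one_smul, _root_.Matrix.tail_cons, _root_.zero_smul, _root_.Matrix.empty_vecMul, _root_.add_zero, _root_.Matrix.smul_cons, _root_.smul_eq_mul, _root_.MulZeroClass.mul_zero, _root_.Matrix.smul_empty, _root_.zero_add, _root_.Matrix.empty_mul, _root_.Equiv.symm_apply_apply, _root_.Matrix.of_apply, _root_.Matrix.cons_val', _root_.Matrix.cons_val_fin_one, Fin.isValue, _root_.Matrix.cons_val_zero, _root_.Matrix.cons_val_one, _root_.Matrix.cons_val, _root_.mul_one, _root_.Matrix.cons_val_succ, _root_.IsEmpty.forall_iff, _root_.and_true, _root_.Matrix.one_apply_eq, _root_.MulZeroClass.zero_mul, _root_.Fin.succ_zero_eq_one, _root_.ne_eq, _root_.zero_ne_one,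 _root_.not_false_eq_true, _root_.Matrix.one_apply_ne, _root_.Fin.succ_one_eq_two, Fin.reduceEq, _root_.and_self, _root_.Fin.succ_ne_zero, _root_.true_and]) <;> grobner

attribute [-instance] instNoNatZeroDivisorsOfIsAddTorsionFree instIsCharPOfIsLeftCancelAddOfCharP in
theorem MWA {w : F} (hw : w ^ 2 + w + 1 = 0) : MW w * MA w = MB F * MW w := by
  unfold MA MB MW
  ext i j
  (revert i j; simp only [Matrix.mul_apply, Fin.sum_univ_three, _root_.Fin.forall_fin_succ, _root_.Matrix.of_apply, _root_.Matrix.cons_val', _root_.Matrix.cons_val_fin_one, Fin.isValue, _root_.Matrix.cons_val_zero, _root_.Matrix.cons_val_one, _root_.Matrix.cons_val, _root_.mul_one, _root_.MulZeroClass.mul_zero, _root_.add_zero, _root_.Matrix.cons_val_succ, _root_.zero_add, _root_.forall_const, _root_.one_mul, _root_.MulZeroClass.zero_mul, _root_.and_self, _root_.true_and]) <;> grobner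

attribute [-instance] instNoNatZeroDivisorsOfIsAddTorsionFree instIsCharPOfIsLeftCancelAddOfCharP in
theorem MWB {w : F} (hw : w ^ 2 + w + 1 = 0) : MA w * (MW w * MB F) = MW w := by
  unfold MA MB MW
  ext i j
  (revert i j; simp only [Matrix.mul_apply, Fin.sum_univ_three, _root_.Fin.forall_fin_succ, _root_.Matrix.cons_mul, _root_.Nat.succ_eq_add_one, Nat.reduceAdd, _root_.Matrix.vecMul_cons, _root_.Matrix.head_cons, _root_.one_smul, _root_.Matrix.tail_cons, _root_.Matrix.empty_vecMul, _root_.add_zero, _root_.Matrix.add_cons, _root_.zero_add, _root_.Matrix.empty_add_empty, _root_.Matrix.smul_cons, _root_.smul_eq_mul, _root_.mul_one, _root_.MulZeroClass.mul_zero, _root_.Matrix.smul_empty, _root_.Matrix.empty_mul, _root_.Equiv.symm_apply_apply, _root_.Matrix.of_apply, _root_.Matrix.cons_val', _root_.Matrix.cons_val_fin_one, Fin.isValue, _root_.Matrix.cons_val_zero, _root_.Matrix.cons_val_one, _root_.Matrix.cons_val, _root_.Matrix.cons_val_succ, _root_.forall_const,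 _root_.MulZeroClass.zero_mul, _root_.and_self, _root_.and_true, _root_.true_and]) <;> grobner

attribute [-instance] instNoNatZeroDivisorsOfIsAddTorsionFree instIsCharPOfIsLeftCancelAddOfCharP in
theorem MBA {w : F} (hw : w ^ 2 + w + 1 = 0) : MB F * MA w = MA w * MB F * MC w := by
  unfold MA MB MC
  ext i j
  (revert i j; simp only [Matrix.mul_apply, Fin.sum_univ_three, _root_.Fin.forall_fin_succ, _root_.Matrix.of_apply, _root_.Matrix.cons_val', _root_.Matrix.cons_val_fin_one, Fin.isValue, _root_.Matrix.cons_val_zero, _root_.Matrix.cons_val_one, _root_.Matrix.cons_val, _root_.Matrix.cons_mul, _root_.Nat.succ_eq_add_one, Nat.reduceAdd, _root_.Matrix.vecMul_cons, _root_.Matrix.head_cons, _root_.one_smul, _root_.Matrix.tail_cons, _root_.zero_smul, _root_.Matrix.empty_vecMul, _root_.add_zero, _root_.Matrix.smul_cons, _root_.smul_eq_mul, _root_.mul_one, _root_.MulZeroClass.mul_zero, _root_.Matrix.smul_empty, _root_.zero_add, _root_.Matrix.empty_mul, _root_.Equiv.symm_apply_apply,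 _root_.add_left_inj, _root_.Matrix.cons_val_succ, _root_.implies_true, _root_.and_true, _root_.MulZeroClass.zero_mul, _root_.and_self, _root_.one_mul, _root_.true_and, _root_.forall_const]) <;> grobner

attribute [-instance] instNoNatZeroDivisorsOfIsAddTorsionFree instIsCharPOfIsLeftCancelAddOfCharP in
theorem cfg_psl34 (w : F) (hw : w ^ 2 + w + 1 = 0) (h2 : (2 : F) = 0) :
    Cfg (Matrix.ProjectiveSpecialLinearGroup (Fin 3) F) := by
  have hw1 : w ≠ 1 := by
    rintro rfl
    have h3 : (1 : F) = 0 := by linear_combination hw - h2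
    exact one_ne_zero h3
  have hw0 : w ≠ 0 := by
    rintro rfl
    simp at hw
  let A : Matrix.SpecialLinearGroup (Fin 3) F := ⟨MA w, det_MA hw⟩
  let B : Matrix.SpecialLinearGroup (Fin 3) F := ⟨MB F, det_MB⟩
  let W : Matrix.SpecialLinearGroup (Fin 3) F := ⟨MW w, det_MW hw h2⟩
  let C : Matrix.SpecialLinearGroup (Fin 3) F := ⟨MC w, det_MC hw⟩
  have hA3 : A * A * A = 1 := Subtype.ext (MA_cube hw)
  refine cfg_quot (Subgroup.center (Matrix.SpecialLinearGroup (Fin 3) F)) (A := A) (B := B) (W := W) hA3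
    (Subtype.ext (MWA hw)) (Subtype.ext (MWB hw)) ?_ ?_ ?_ ?_
  · have h1 : (A * B)⁻¹ * (B * A) = C := by
      rw [inv_mul_eq_iff_eq_mul]
      exact Subtype.ext (MBA hw)
    rw [h1]
    refine Matrix.SpecialLinearGroup.mem_center_iff.2 ⟨w ^ 2, ?_, ?_⟩
    · rw [Fintype.card_fin]; (clear * - hw h2 hw1 hw0; grobner)
    · ext i j
      (revert i j; simp only [C, MC, _root_.Fin.forall_fin_succ, _root_.Matrix.scalar_apply, _root_.Matrix.of_apply, _root_.Matrix.cons_val', _root_.Matrix.cons_val_fin_one, Fin.isValue, _root_.Matrix.cons_val_zero, _root_.Matrix.cons_val_succ, _root_.Fin.succ_zero_eq_one, _root_.Fin.succ_one_eq_two, _root_.IsEmpty.forall_iff, _root_.and_true, _root_.Matrix.diagonal_apply_eq, _root_.ne_eq, _root_.zero_ne_one, _root_.not_false_eq_true, _root_.Matrix.diagonal_apply_ne, Fin.reduceEq, _root_.and_self, _root_.Fin.succ_ne_zero, _root_.true_and])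
  · refine not_center_diag (i := 0) (j := 1) ?_
    show MA w 0 0 ≠ MA w 1 1
    simpa [MA] using hw1.symm
  · have h1 : A⁻¹ = A * A := by rw [inv_eq_iff_mul_eq_one, ← mul_assoc]; exact hA3
    rw [h1]
    refine not_center_off (i := 0) (j := 2) (by decide) ?_
    show (MA w * MA w * MB F) 0 2 ≠ 0
    simp [MA, MB, Matrix.mul_apply, Fin.sum_univ_three]
  · refine not_center_off (i := 0) (j := 2) (by decide) ?_
    show (MA w * MB F) 0 2 ≠ 0
    simp [MA, MB, Matrix.mul_apply, Fin.sum_univ_three]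

end three

section four

variable {F : Type*} [Field F]

def NA (F : Type*) [Field F] : Matrix (Fin 4) (Fin 4) F := !![0, 1, 0, 0; 1, 1, 0, 0; 0, 0, 1, 0; 0, 0, 0, 1]
def NB (F : Type*) [Field F] : Matrix (Fin 4) (Fin 4) F := !![1, 0, 0, 0; 0, 1, 0, 0; 0, 0, 0, 1; 0, 0, 1, 1]
def NW (F : Type*) [Field F] : Matrix (Fin 4) (Fin 4) F := !![0, 0, 0, 1; 0, 0, 1, 0; 1, 0, 0, 0; 0, 1, 0, 0]

attribute [-instance] instNoNatZeroDivisorsOfIsAddTorsionFree instIsCharPOfIsLeftCancelAddOfCharP in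
theorem det_NA (h2 : (2 : F) = 0) : (NA F).det = 1 := by
  unfold NA
  rw [Matrix.det_succ_row_zero]
  simp only [Fin.sum_univ_succ, Matrix.det_fin_three, Fin.succAbove, _root_.Nat.succ_eq_add_one, _root_.Nat.reduceAdd, _root_.Fin.isValue, _root_.Matrix.of_apply, _root_.Matrix.cons_val', _root_.Matrix.cons_val_fin_one, _root_.Matrix.cons_val_zero, _root_.Matrix.submatrix_apply, _root_.Fin.succ_zero_eq_one, _root_.Fin.castSucc_zero, _root_.Matrix.cons_val_one, _root_.Fin.succ_one_eq_two, _root_.Fin.castSucc_one, _root_.Matrix.cons_val, _root_.Fin.reduceSucc, _root_.Fin.reduceCastSucc, _root_.Fin.coe_ofNat_eq_mod, _root_.Nat.zero_mod, _root_.pow_zero, _root_.MulZeroClass.mul_zero, _root_.lt_self_iff_false, ↓ _root_.reduceIte, _root_.not_lt_zero, _root_.mul_one, _root_.sub_zero, _root_.add_zero, _root_.Fin.val_succ, _root_.Matrix.cons_val_succ, _root_.Fin.succ_pos, _root_.one_mul, _root_.MulZeroClass.zero_mul, _root_.zero_add, _root_.pow_one, _root_.Fin.lt_one_iff,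 _root_.Fin.reduceEq, _root_.even_two, _root_.Even.neg_pow, _root_.one_pow, _root_.Fin.reduceLT, _root_.sub_self, _root_.Finset.univ_unique, _root_.Fin.default_eq_zero, _root_.Fin.val_eq_zero, _root_.Finset.sum_const_zero]
  grobner

attribute [-instance] instNoNatZeroDivisorsOfIsAddTorsionFree instIsCharPOfIsLeftCancelAddOfCharP in
theorem det_NB (h2 : (2 : F) = 0) : (NB F).det = 1 := by
  unfold NB
  rw [Matrix.det_succ_row_zero]
  simp only [Fin.sum_univ_succ, Matrix.det_fin_three, Fin.succAbove, _root_.Nat.succ_eq_add_one, _root_.Nat.reduceAdd, _root_.Fin.isValue, _root_.Matrix.of_apply, _root_.Matrix.cons_val', _root_.Matrix.cons_val_fin_one, _root_.Matrix.cons_val_zero, _root_.Matrix.submatrix_apply, _root_.Fin.succ_zero_eq_one, _root_.Fin.castSucc_zero, _root_.Matrix.cons_val_one, _root_.Fin.succ_one_eq_two, _root_.Fin.castSucc_one, _root_.Matrix.cons_val, _root_.Fin.reduceSucc, _root_.Fin.reduceCastSucc, _root_.Fin.coe_ofNat_eq_mod, _root_.Nat.zero_mod, _root_.pow_zero,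 _root_.mul_one, _root_.lt_self_iff_false, ↓ _root_.reduceIte, _root_.not_lt_zero, _root_.MulZeroClass.mul_zero, _root_.zero_sub, _root_.sub_zero, _root_.add_zero, _root_.mul_neg, _root_.Fin.val_succ, _root_.Matrix.cons_val_succ, _root_.Fin.succ_pos, _root_.MulZeroClass.zero_mul, _root_.sub_self, _root_.Finset.sum_const_zero]
  grobner

attribute [-instance] instNoNatZeroDivisorsOfIsAddTorsionFree instIsCharPOfIsLeftCancelAddOfCharP in
theorem det_NW (h2 : (2 : F) = 0) : (NW F).det = 1 := by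
  unfold NW
  rw [Matrix.det_succ_row_zero]
  simp only [Fin.sum_univ_succ, Matrix.det_fin_three, Fin.succAbove, _root_.Nat.succ_eq_add_one, _root_.Nat.reduceAdd, _root_.Fin.isValue, _root_.Matrix.of_apply, _root_.Matrix.cons_val', _root_.Matrix.cons_val_fin_one, _root_.Matrix.cons_val_zero, _root_.Matrix.submatrix_apply, _root_.Fin.succ_zero_eq_one, _root_.Fin.castSucc_zero, _root_.Matrix.cons_val_one, _root_.Fin.succ_one_eq_two, _root_.Fin.castSucc_one, _root_.Matrix.cons_val, _root_.Fin.reduceSucc, _root_.Fin.reduceCastSucc, _root_.Fin.coe_ofNat_eq_mod, _root_.Nat.zero_mod, _root_.pow_zero, _root_.MulZeroClass.mul_zero, _root_.lt_self_iff_false, ↓ _root_.reduceIte, _root_.not_lt_zero, _root_.sub_self, _root_.mul_one, _root_.add_zero, _root_.Fin.val_succ, _root_.Matrix.cons_val_succ, _root_.Fin.succ_pos, _root_.MulZeroClass.zero_mul, _root_.zero_sub, _root_.sub_zero, _root_.zero_add, _root_.pow_one, _root_.Fin.lt_one_iff, _root_.Fin.reduceEq, _root_.neg_zero, _root_.even_two,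 _root_.Even.neg_pow, _root_.one_pow, _root_.Fin.reduceLT, _root_.Finset.univ_unique, _root_.Fin.default_eq_zero, _root_.Fin.val_eq_zero, _root_.Finset.sum_singleton]
  grobner

attribute [-instance] instNoNatZeroDivisorsOfIsAddTorsionFree instIsCharPOfIsLeftCancelAddOfCharP in
theorem NA_cube (h2 : (2 : F) = 0) : NA F * NA F * NA F = 1 := by
  unfold NA
  ext i j
  (revert i j; simp only [Matrix.mul_apply, Fin.sum_univ_four, _root_.Fin.forall_fin_succ, _root_.Matrix.cons_mul, _root_.Nat.succ_eq_add_one, Nat.reduceAdd, _root_.Matrix.vecMul_cons, _root_.Matrix.head_cons, _root_.zero_smul, _root_.Matrix.tail_cons, _root_.one_smul, _root_.Matrix.empty_vecMul, _root_.add_zero, _root_.zero_add, _root_.Matrix.add_cons, _root_.Matrix.empty_add_empty, _root_.Matrix.empty_mul, _root_.Equiv.symm_apply_apply, _root_.Matrix.of_apply, _root_.Matrix.cons_val', _root_.Matrix.cons_val_fin_one, Fin.isValue, _root_.Matrix.cons_val_zero, _root_.Matrix.cons_val_one, _root_.Matrix.cons_val,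 _root_.MulZeroClass.mul_zero, _root_.mul_one, _root_.Matrix.cons_val_succ, _root_.IsEmpty.forall_iff, _root_.and_true, _root_.Matrix.one_apply_eq, _root_.Fin.succ_zero_eq_one, _root_.ne_eq, _root_.zero_ne_one, _root_.not_false_eq_true, _root_.Matrix.one_apply_ne, _root_.Fin.succ_one_eq_two, Fin.reduceEq, Fin.reduceSucc, _root_.and_self, _root_.true_and, _root_.Fin.succ_ne_zero, _root_.add_eq_left]) <;> grobner

theorem NWA : NW F * NA F = NB F * NW F := by
  unfold NA NB NW
  ext i j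
  (revert i j; simp only [Matrix.mul_apply, Fin.sum_univ_four, _root_.Fin.forall_fin_succ, _root_.Matrix.of_apply, _root_.Matrix.cons_val', _root_.Matrix.cons_val_fin_one, Fin.isValue, _root_.Matrix.cons_val_zero, _root_.Matrix.cons_val_one, _root_.Matrix.cons_val, _root_.MulZeroClass.mul_zero, _root_.mul_one, _root_.zero_add, _root_.add_zero, _root_.Matrix.cons_val_succ, _root_.implies_true, _root_.and_self, _root_.and_true, _root_.true_and])

attribute [-instance] instNoNatZeroDivisorsOfIsAddTorsionFree instIsCharPOfIsLeftCancelAddOfCharP in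
theorem NWB (h2 : (2 : F) = 0) : NA F * (NW F * NB F) = NW F := by
  unfold NA NB NW
  ext i j
  (revert i j; simp only [Matrix.mul_apply, Fin.sum_univ_four, _root_.Fin.forall_fin_succ, _root_.Matrix.cons_mul, _root_.Nat.succ_eq_add_one, Nat.reduceAdd, _root_.Matrix.vecMul_cons, _root_.Matrix.head_cons, _root_.zero_smul, _root_.Matrix.tail_cons, _root_.one_smul, _root_.Matrix.empty_vecMul, _root_.add_zero, _root_.zero_add, _root_.Matrix.empty_mul, _root_.Equiv.symm_apply_apply, _root_.Matrix.of_apply, _root_.Matrix.cons_val', _root_.Matrix.cons_val_fin_one, Fin.isValue, _root_.Matrix.cons_val_zero, _root_.Matrix.cons_val_one, _root_.Matrix.cons_val, _root_.MulZeroClass.mul_zero, _root_.mul_one, _root_.Matrix.cons_val_succ, _root_.forall_const, _root_.true_and, _root_.add_eq_left, _root_.implies_true, _root_.and_self, _root_.and_true]) <;> grobner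

theorem NBA : NB F * NA F = NA F * NB F := by
  unfold NA NB
  ext i j
  (revert i j; simp only [Matrix.mul_apply, Fin.sum_univ_four, _root_.Fin.forall_fin_succ, _root_.Matrix.of_apply, _root_.Matrix.cons_val', _root_.Matrix.cons_val_fin_one, Fin.isValue, _root_.Matrix.cons_val_zero, _root_.Matrix.cons_val_one, _root_.Matrix.cons_val, _root_.MulZeroClass.mul_zero, _root_.mul_one, _root_.zero_add, _root_.add_zero, _root_.Matrix.cons_val_succ, _root_.forall_const, _root_.true_and, _root_.and_self, _root_.add_eq_right, _root_.implies_true])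

theorem cfg_psl42 (h2 : (2 : F) = 0) : Cfg (Matrix.ProjectiveSpecialLinearGroup (Fin 4) F) := by
  let A : Matrix.SpecialLinearGroup (Fin 4) F := ⟨NA F, det_NA h2⟩
  let B : Matrix.SpecialLinearGroup (Fin 4) F := ⟨NB F, det_NB h2⟩
  let W : Matrix.SpecialLinearGroup (Fin 4) F := ⟨NW F, det_NW h2⟩
  have hA3 : A * A * A = 1 := Subtype.ext (NA_cube h2)
  refine cfg_quot (Subgroup.center (Matrix.SpecialLinearGroup (Fin 4) F)) (A := A) (B := B) (W := W) hA3
    (Subtype.ext NWA) (Subtype.ext (NWB h2)) ?_ ?_ ?_ ?_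
  · have h1 : (A * B)⁻¹ * (B * A) = 1 := by
      rw [inv_mul_eq_iff_eq_mul, mul_one]
      exact Subtype.ext NBA
    rw [h1]
    exact one_mem _
  · refine not_center_off (i := 0) (j := 1) (by decide) ?_
    show NA F 0 1 ≠ 0
    simp [NA]
  · have h1 : A⁻¹ = A * A := by rw [inv_eq_iff_mul_eq_one, ← mul_assoc]; exact hA3
    rw [h1]
    refine not_center_off (i := 2) (j := 3) (by decide) ?_
    show (NA F * NA F * NB F) 2 3 ≠ 0
    simp [NA, NB, Matrix.mul_apply, Fin.sum_univ_four]
  · refine not_center_off (i := 2) (j := 3) (by decide) ?_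
    show (NA F * NB F) 2 3 ≠ 0
    simp [NA, NB, Matrix.mul_apply, Fin.sum_univ_four]

end four

end Cfsg.Agent.H395.PF
end

-- part: H395/PFJ2Row
section
/-!
# Every proper subgroup of `J2` misses a prime (helper395, for `S3522`)

The subgroups of order divisible by 5 and 7 would have `A7`, `A8`, `L4(2)` or `L3(4)` on top.
-/

set_option autoImplicit false

namespace Cfsg.Agent.H395.PF

open Subgroup
open Cfsg.Agent.OrdDiv Cfsg.Agent.H257.El

universe u

theorem self_seven {G : Type*} [Group G] [Finite G] {z u : G} (h : J2Type.Base.Fus z u) : H604.Sax.SelfC G 7 := by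
  have : Fact (Nat.Prime 7) := ⟨by norm_num⟩
  intro x hx
  have hc : Nat.card G = 604800 := J2Type.Order.card_of_fus h
  have hZ : IsPGroup 7 (zpowers x) := by
    rw [IsPGroup.iff_card]
    exact ⟨1, by rw [Nat.card_zpowers, hx, pow_one]⟩
  obtain ⟨P, hP⟩ := hZ.exists_le_sylow
  obtain ⟨k, hk⟩ := IsPGroup.iff_card.1 P.2
  have h3 : k < 2 := by
    by_contra hlt
    push Not at hlt
    have h4 : 7 ^ 2 ∣ Nat.card G := (pow_dvd_pow 7 hlt).trans (hk ▸ card_subgroup_dvd_card _)
    rw [hc] at h4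
    norm_num at h4
  have hPe : zpowers x = (P : Subgroup G) := by
    apply eq_of_le_of_card_ge hP
    rw [hk, Nat.card_zpowers, hx]
    calc 7 ^ k ≤ 7 ^ 1 := Nat.pow_le_pow_right (by norm_num) (by omega)
      _ = 7 := pow_one 7
  have h1 := (J2Type.ThreeF.sylow_seven h P).1
  have h2 : centralizer ({x} : Set G) = centralizer ((P : Subgroup G) : Set G) := by
    rw [← hPe]
    ext g
    rw [mem_centralizer_singleton_iff, mem_centralizer_iff]
    constructor
    · rintro hg y hy
      obtain ⟨j, rfl⟩ := mem_zpowers_iff.1 hy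
      exact ((show Commute g x from hg).zpow_right j).eq.symm
    · intro hg
      exact (hg x (mem_zpowers x)).symm
  rw [h2, h1, ← hPe, Nat.card_zpowers, hx]

theorem surv_j2 : surv 604800 [(2, 7), (3, 3), (5, 2), (7, 1)] 7 [5] = [.alt 7, .alt 8, .psl 4 2, .psl 3 4] := by
  decide +kernel

theorem exists_omega {F : Type*} [Field F] [Fintype F] (h : Fintype.card F = 4) :
    ∃ w : F, w ^ 2 + w + 1 = 0 ∧ (2 : F) = 0 := by
  have h2 : (2 : F) = 0 := by
    have h3 : ((4 : ℕ) : F) = 0 := by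
      rw [← h]; exact Nat.cast_card_eq_zero F
    have h4 : (2 : F) * 2 = 0 := by
      have h5 : (2 : F) * 2 = ((4 : ℕ) : F) := by norm_num
      rw [h5, h3]
    exact mul_self_eq_zero.1 h4
  classical
  have h1 : ∃ w : F, w ≠ 0 ∧ w ≠ 1 := by
    by_contra hn
    push Not at hn
    have h3 : (Finset.univ : Finset F) ⊆ {0, 1} := by
      intro w _
      by_cases hw : w = 0
      · simp only [hw, _root_.Finset.mem_insert, _root_.Finset.mem_singleton, _root_.zero_ne_one, _root_.or_false]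
      · simp only [hn w hw, _root_.Finset.mem_insert, _root_.one_ne_zero, _root_.Finset.mem_singleton, _root_.or_true]
    have h4 := Finset.card_le_card h3
    rw [Finset.card_univ, h] at h4
    have h5 := Finset.card_le_two (a := (0 : F)) (b := 1)
    omega
  obtain ⟨w, hw0, hw1⟩ := h1
  refine ⟨w, ?_, h2⟩
  have h3 : w ^ 3 = 1 := by
    have := FiniteField.pow_card_sub_one_eq_one w hw0
    rwa [h] at this
  have h4 : (w - 1) * (w ^ 2 + w + 1) = 0 := by linear_combination h3
  exact (mul_eq_zero.1 h4).resolve_left (sub_ne_zero.2 hw1)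

/-- the prime form -/
theorem miss_j2 (tab : OrderTable.{u}) (known : Known.{u}) {T : Type u} [Group T] (h : Spor.IsoJ2 T) {R : Subgroup T}
    (hR : R ≠ ⊤) : ∃ p : ℕ, p.Prime ∧ p ∣ Nat.card T ∧ ¬ p ∣ Nat.card R := by
  have hc : Nat.card T = 604800 := by
    obtain ⟨e⟩ := h
    rw [Nat.card_congr e.toEquiv, S1619.result.2.2.2]
  have hfin : Finite T := Nat.finite_of_card_ne_zero (by rw [hc]; norm_num)
  obtain ⟨t, w, Q, v, ρ, D⟩ := Cfsg.Agent.KFacts.J2.Facts.exists_dat_of h
  by_contra hall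
  push Not at hall
  rw [hc] at hall
  have S : H604.Sax.Ful T 604800 [(2, 7), (3, 3), (5, 2), (7, 1)] 7 R :=
    { tab := tab
      known := known
      card := hc
      valid := by decide +kernel
      prime := by norm_num
      dvd := by norm_num
      sq := by norm_num
      self := self_seven D.F
      ne := hR
      full := hall }
  obtain ⟨O, hO, N, g, ht, hg, hr, hcN, hcR, hOd, hq, -⟩ := S.exists_main (s := 5) (by norm_num) (by decide +kernel)
  have h3 : ¬ 3 ∣ Nat.card O := by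
    intro hd
    have h0 : Nat.card O ≠ 0 := Nat.card_pos.ne'
    have h1 : 1 ≤ (Nat.card O).factorization 3 := (Nat.prime_three.pow_dvd_iff_le_factorization (k := 1) h0).1 (by
      rwa [pow_one])
    have h4 : Nat.card O ∣ 604800 := by
      rw [← hc]
      exact (Subgroup.card_subgroup_dvd_card O).trans (Subgroup.card_subgroup_dvd_card R)
    have h5 : (Nat.card O).factorization 3 ≤ 3 := by
      by_contra hlt
      have h6 : 3 ^ 4 ∣ Nat.card O := (Nat.prime_three.pow_dvd_iff_le_factorization h0).2 (by omega)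
      have h7 := h6.trans h4
      norm_num at h7
    have h6 := hq 3 Nat.prime_three (by norm_num)
    generalize (Nat.card O).factorization 3 = b at h1 h5 h6
    interval_cases b <;> simp_all only [_root_.ne_eq, _root_.Std.le_refl, _root_.Nat.one_le_ofNat, _root_.pow_one, _root_.Nat.reduceMod, _root_.OfNat.ofNat_ne_one, _root_.Nat.reduceLeDiff, _root_.Nat.reducePow]
  apply not_cfg D.F
  have hN : Cfg N := by
    rw [surv_j2] at hg
    simp only [List.mem_cons, List.not_mem_nil, or_false] at hg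
    rcases hg with rfl | rfl | rfl | rfl
    · obtain ⟨f⟩ := hr
      exact cfg_a7.map f.symm.toMonoidHom f.symm.injective
    · obtain ⟨f⟩ := hr
      exact cfg_a8.map f.symm.toMonoidHom f.symm.injective
    · obtain ⟨F, _, _, hF, ⟨f⟩⟩ := hr
      have h2 : (2 : F) = 0 := by
        have h3 : ((2 : ℕ) : F) = 0 := by
          rw [← hF]; exact Nat.cast_card_eq_zero F
        exact_mod_cast h3
      exact (cfg_psl42 h2).map f.symm.toMonoidHom f.symm.injective
    · obtain ⟨F, _, _, hF, ⟨f⟩⟩ := hr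
      obtain ⟨w, hw, h2⟩ := exists_omega hF
      exact (cfg_psl34 w hw h2).map f.symm.toMonoidHom f.symm.injective
  have hRO : Cfg (R ⧸ O) := hN.map N.subtype N.subtype_injective
  exact (hRO.of_quotient O h3).map R.subtype R.subtype_injective

end Cfsg.Agent.H395.PF
end

private theorem dce_0f6cc6ea7927 : _root_.True := by
  try have : _root_.True := by simp only [_root_.Cfsg.Agent.H395.PF.NA.eq_1]
  try have : _root_.True := by simp only [_root_.Cfsg.Agent.H395.PF.MC.eq_1]
  try have : _root_.True := by simp only [_root_.Cfsg.Agent.H395.PF.NB.eq_1]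
  try have : _root_.True := by simp only [_root_.Cfsg.Agent.H395.PF.MA.eq_1]
  try have : _root_.True := by simp only [_root_.Cfsg.Agent.H395.PF.MB.eq_1]
  exact _root_.True.intro
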