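import Cfsg.Agent.H904.El.Fi22
import Cfsg.Agent.H217.Odm.Real_m3
import Cfsg.Agent.H997.PF.Rows
import Cfsg.Agent.H395.PFJ2Row
import Cfsg.Agent.H257.El.Row.He_mg
import Cfsg.Agent.H257.El.Row.Fi24
import Cfsg.Agent.H604.Sax.RowsCo
import Cfsg.Agent.H604.Sax.Tits
import Cfsg.Agent.H153.Cov.Fi23
import Cfsg.Agent.H180.MElBig
import Cfsg.Agent.H904.El.McL
import Cfsg.Agent.H603.SporElim
import Cfsg.Agent.EvenType.ChevTwoTits
import Cfsg.Agent.Prune
set_option linter.all false
prune_inst 0x7f00000000000000000000000000000000000000000000000000000000000000000000000000000000000000000000000000000000000000000000000000000000000000000000000000000000000000003fffffffffffffffffffffffffffbeffbdffffffff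
open scoped Cfsg.Agent.FastGrp

-- part: H395/PFFi22
section
/-!
# Every proper subgroup of `Fi22` misses a prime (helper395, for `S3522`)

The argument of `H904.El.Fi22.der`.
-/

set_option autoImplicit false
set_option maxRecDepth 100000

namespace Cfsg.Agent.H395.PF

open Cfsg Cfsg.Agent.OrdDiv Cfsg.Agent.H257.El Cfsg.Agent.H722.RealP Subgroup

universe u

theorem surv_fi22 : surv 64561751654400 [(2, 17), (3, 9), (5, 2), (7, 1), (11, 1), (13, 1)] 13 [11] = [.alt 13, .suz] := by
  decide +kernel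

/-- the prime form -/
theorem miss_fi22 (tab : OrderTable.{u}) (known : Known.{u}) {T : Type u} [Group T] (h : Spor.IsoFi22 T)
    {R : Subgroup T} (hR : R ≠ ⊤) : ∃ p : ℕ, p.Prime ∧ p ∣ Nat.card T ∧ ¬ p ∣ Nat.card R := by
  have hc := NotCT.Orders.fi22 h
  have hfin : Finite T := Nat.finite_of_card_ne_zero (by rw [hc]; norm_num)
  obtain ⟨e⟩ := h
  by_contra hall
  push Not at hall
  rw [hc] at hall
  have S : SitA T 64561751654400 [(2, 17), (3, 9), (5, 2), (7, 1), (11, 1), (13, 1)] 13 R :=
    ⟨tab, known, hc, by decide +kernel, by norm_num, by norm_num, by norm_num, hR, hall⟩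
  obtain ⟨O, hO, N, hT⟩ := S.exists_top
  have hno : ∀ z : T, orderOf z ≠ 13 * 11 :=
    noOrd_of_cent (by norm_num) (fun x hx => H713.Spor.Fi22.cent_13 e hx) (by norm_num) (by norm_num)
  have h11 := S.dvd_simple hT (s := 11) (by norm_num) hno (by decide +kernel)
  obtain ⟨g, hg, hgR, -⟩ := S.exists_surv hT (SitA.not_comm_of_dvd hT (by norm_num) (by norm_num) h11) [11] (by
    intro t ht
    rw [List.mem_singleton] at ht
    rw [ht]
    exact h11)
  rw [surv_fi22] at hg
  have h11' : Fact (Nat.Prime 11) := ⟨by norm_num⟩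
  have hreal : HasReal 11 N := by
    simp only [List.mem_cons, List.not_mem_nil, or_false] at hg
    rcases hg with rfl | rfl
    · obtain ⟨f⟩ := hgR
      exact H904.El.Fi22.alt_thirteen.map_equiv f.symm
    · obtain ⟨f⟩ := hgR
      exact H904.El.Fi22.suz_eleven.map_equiv f.symm
  have hT' : HasReal 11 T := (hreal.of_subgroup.of_quotient (by norm_num)).of_subgroup
  obtain ⟨x, hx, hxc⟩ := hT'.isConj
  exact H713.Spor.Fi22.not_real e hx hxc

end Cfsg.Agent.H395.PF
end

-- part: H395/PFGap
section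
/-!
# Proper subgroups of sporadic groups: missing primes, or a small exception (helper395, for `S3522`)

* `pgap_m22`, `pgap_j2`, `pgap_j3`, `pgap_suz`, `pgap_he`, `pgap_fi22`, `pgap_fi24` : every proper subgroup misses a prime;
* `pgap_or_hs`, `pgap_or_mcl` : every proper subgroup misses a prime or is isomorphic to `M22`;
* `kill_tits`.
-/

set_option autoImplicit false

namespace Cfsg.Agent.H395.PF

open Cfsg Cfsg.Agent.OrdDiv Cfsg.Agent.H257.El Cfsg.Agent.H997.PF Cfsg.Agent.H938.Sax Subgroup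

universe u

variable {T : Type u} [Group T]

theorem pgap_j2 (tab : OrderTable.{u}) (known : Known.{u}) (h : Spor.IsoJ2 T) (K : Subgroup T) (hK : K ≠ ⊤) :
    PGap T K := miss_j2 tab known h hK

theorem pgap_fi22 (tab : OrderTable.{u}) (known : Known.{u}) (h : Spor.IsoFi22 T) (K : Subgroup T) (hK : K ≠ ⊤) :
    PGap T K := miss_fi22 tab known h hK

theorem pgap_he (tab : OrderTable.{u}) (known : Known.{u}) (h : Spor.IsoHe T) (K : Subgroup T) (hK : K ≠ ⊤) :
    PGap T K := H257.El.Row.clM_he tab known h K hK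

theorem pgap_j3 (tab : OrderTable.{u}) (known : Known.{u}) (h : Spor.IsoJ3 T) (K : Subgroup T) (hK : K ≠ ⊤) :
    PGap T K := H257.El.Row.clM_j3 tab known h K hK

theorem pgap_fi24 (tab : OrderTable.{u}) (known : Known.{u}) (h : Spor.IsoFi24' T) (K : Subgroup T) (hK : K ≠ ⊤) :
    PGap T K := H257.El.Row.clM_fi24 tab known h K hK

theorem pgap_suz (tab : OrderTable.{u}) (known : Known.{u}) (h : Spor.IsoSuz T) (K : Subgroup T) (hK : K ≠ ⊤) :
    PGap T K := by
  have hc := NotCT.Orders.suz h
  rcases H180.ElS.miss_suz tab known h hK with h1 | h1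
  · exact ⟨13, by norm_num, by rw [hc]; norm_num, h1⟩
  · exact ⟨11, by norm_num, by rw [hc]; norm_num, h1⟩

theorem pgap_m22_aux (R : Subgroup Spor.M22) (hR : R ≠ ⊤) : PGap Spor.M22 R := by
  by_contra hn
  apply hR
  have hc := Cfsg.Agent.SporadicA.MathieuRecog.card_M22
  have hd : ∀ p : ℕ, p.Prime → p ∣ Nat.card Spor.M22 → p ∣ Nat.card (R.map Spor.M22.subtype) := by
    intro p hp h
    rw [H180.MEl.card_map_subtype]
    by_contra h1
    exact hn ⟨p, hp, h, h1⟩
  apply H180.MEl.eq_top_of_card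
  rw [← H180.MEl.card_map_subtype, hc]
  refine H180.MEl.m22 (T := {none, some 0}) ?_ (by decide) ?_ (hd 5 (by norm_num) (by rw [hc]; norm_num))
    (hd 7 (by norm_num) (by rw [hc]; norm_num)) (hd 11 (by norm_num) (by rw [hc]; norm_num))
  · rintro _ ⟨g, -, rfl⟩
    exact g.2.1.1
  · rintro _ ⟨g, -, rfl⟩ t ht
    rw [Finset.mem_insert, Finset.mem_singleton] at ht
    rcases ht with rfl | rfl
    · exact g.2.1.2
    · exact g.2.2

theorem pgap_m22 (h : Spor.IsoM22 T) (K : Subgroup T) (hK : K ≠ ⊤) : PGap T K := by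
  obtain ⟨e⟩ := h
  have h1 := pgap_m22_aux (K.comap e.symm.toMonoidHom) (comap_ne_top e.symm hK)
  exact h1.congr e.symm

/-- every proper subgroup of `HS` misses a prime or is `M22` -/
theorem pgap_or_hs (tab : OrderTable.{u}) (known : Known.{u}) (h : Spor.IsoHS T) (K : Subgroup T) (hK : K ≠ ⊤) :
    PGap T K ∨ Spor.IsoM22 K := by
  by_contra hn
  rw [not_or] at hn
  refine hn.2 (H604.Sax.full_hs tab known h hK fun p hp hd => ?_)
  by_contra h1
  exact hn.1 ⟨p, hp, by rw [NotCT.Orders.hs h]; exact hd, h1⟩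

/-- every proper subgroup of `McL` misses a prime or is `M22` -/
theorem pgap_or_mcl (tab : OrderTable.{u}) (known : Known.{u}) (h : Spor.IsoMcL T) (K : Subgroup T) (hK : K ≠ ⊤) :
    PGap T K ∨ Spor.IsoM22 K := by
  by_contra hn
  rw [not_or] at hn
  have hc := NotCT.Orders.mcl h
  have : Finite T := Nat.finite_of_card_ne_zero (by rw [hc]; norm_num)
  rcases H604.Sax.full_mcl tab known h hK (fun p hp hd => by
    by_contra h1
    exact hn.1 ⟨p, hp, by rw [hc]; exact hd, h1⟩) with h1 | ⟨⟨f⟩⟩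
  · exact hn.2 h1
  · obtain ⟨z, hz⟩ := H904.El.McL.alt_eleven
    refine H904.El.noOrd_of_dvd (G := T) (r := 7) (s := 3) (m := 14) (by norm_num) (by norm_num)
      (fun P hP => (H904.McLCent.seven h P hP).1) (by norm_num) (f.symm z : T) ?_
    rw [Subgroup.orderOf_coe, MulEquiv.orderOf_eq, hz]

/-- the order equation for the Tits group -/
theorem kill_tits (tab : OrderTable.{u}) (known : Known.{u}) (h : Lie.IsoTits T) (K : Subgroup T) (hK : K ≠ ⊤) :
    Kill T 1 K := by
  have hc := NotCT.Orders.tits h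
  have : Finite T := Nat.finite_of_card_ne_zero (by rw [hc]; norm_num)
  by_cases hp : PGap T K
  · exact .pgap hp
  obtain ⟨O, hO, N, g, ht, hg, hr, hcN, hcR, hOd, hq, he⟩ := (H604.Sax.ful_tits tab known h hK fun p hp' hd => by
    by_contra h2
    exact hp ⟨p, hp', by rw [hc]; exact hd, h2⟩).exists_main (s := 5) (by norm_num) (by decide +kernel)
  rw [H604.Sax.surv_tits] at hg
  rcases List.mem_cons.1 hg with hg | hg
  · subst hg
    rw [H604.Sax.ord_l25] at he hOd hcR
    have hO1 : Nat.card O = 1 := H604.Sax.eq_one_of_mod (l := [(2,8),(3,2)]) (m := 2304) (by decide +kernel)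
      (by norm_num) (by simpa using hOd) hq (by decide +kernel)
    rw [hO1] at he hcR
    norm_num at he
    have h2 : N.index ∣ 3 := Nat.dvd_of_mul_dvd_mul_left (k := 2) (by norm_num) (by simpa using he)
    refine Kill.num_one (v := 2) (k := 11) (l := 3) Nat.prime_two (by rw [hc]; norm_num) ?_ (by norm_num)
    intro h3
    rw [hcR] at h3
    have h4 := h3.trans (Nat.mul_dvd_mul_left (7800 * 1) h2)
    norm_num at h4
  · rw [List.mem_singleton] at hg
    subst hg
    rw [H604.Sax.ord_u34] at he hOd hcR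
    have hO1 : Nat.card O = 1 := H604.Sax.eq_one_of_mod (l := [(2,5),(3,2)]) (m := 288) (by decide +kernel)
      (by norm_num) (by simpa using hOd) hq (by decide +kernel)
    rw [hO1] at he hcR
    norm_num at he
    have h2 : N.index ∣ 2 := Nat.dvd_of_mul_dvd_mul_left (k := 3) (by norm_num) (by simpa using he)
    refine Kill.num_one (v := 3) (k := 3) (l := 1) Nat.prime_three (by rw [hc]; norm_num) ?_ (by norm_num)
    intro h3
    rw [hcR] at h3
    have h4 := h3.trans (Nat.mul_dvd_mul_left (62400 * 1) h2)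
    norm_num at h4

theorem kill_hs (tab : OrderTable.{u}) (known : Known.{u}) (h : Spor.IsoHS T) (K : Subgroup T) (hK : K ≠ ⊤) :
    Kill T 1 K := by
  rcases pgap_or_hs tab known h K hK with h1 | h1
  · exact .pgap h1
  · refine Kill.num_one (v := 5) (k := 3) (l := 1) (by norm_num) (by rw [NotCT.Orders.hs h]; norm_num) ?_ (by norm_num)
    rw [NotCT.Orders.m22 h1]
    norm_num

theorem kill_mcl (tab : OrderTable.{u}) (known : Known.{u}) (h : Spor.IsoMcL T) (K : Subgroup T) (hK : K ≠ ⊤) :
    Kill T 1 K := by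
  rcases pgap_or_mcl tab known h K hK with h1 | h1
  · exact .pgap h1
  · refine Kill.num_one (v := 3) (k := 6) (l := 2) (by norm_num) (by rw [NotCT.Orders.mcl h]; norm_num) ?_ (by norm_num)
    rw [NotCT.Orders.m22 h1]
    norm_num

end Cfsg.Agent.H395.PF
end

-- part: H395/PFTits
section
/-!
# The row of the Tits group for `S3522` (helper395)
-/

set_option autoImplicit false

namespace Cfsg.Agent.H395.PF

open Cfsg Cfsg.Agent.OrdDiv Cfsg.Agent.H257.El Cfsg.Agent.H997.PF Subgroup

universe u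

variable {T : Type u} [Group T]

theorem out_dvd_of {X : Type*} [Group X] (h : Nat.card (Cfsg.Out X) ∣ 2) (e : Nonempty (T ≃* X)) :
    Nat.card (Cfsg.Out T) ∣ 2 := by
  obtain ⟨e⟩ := e
  rwa [card_out_congr e]

set_option maxRecDepth 100000 in
theorem card_out_tits (h : Lie.IsoTits T) : Nat.card (Cfsg.Out T) ∣ 2 := by
  obtain ⟨e⟩ := h
  obtain ⟨e'⟩ := Cfsg.Agent.TitsK.exists_equiv
  have hfin : Finite Cfsg.Agent.FourTwo.Base.LL := by infer_instance
  have h1 : Nat.card (Cfsg.Out ↥Cfsg.Agent.TitsK.TT) ∣ 2 := Cfsg.Agent.TitsK.tdata.index_inn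
  exact out_dvd_of h1 ⟨e.trans e'⟩

theorem row_tits (tab : OrderTable.{u}) (known : Known.{u}) (h : Lie.IsoTits T) : Row T := by
  refine .kill fun d h1 h2 K hK => ?_
  have h3 : d = 1 := by
    have h4 := card_out_tits h
    rcases (Nat.dvd_prime Nat.prime_two).1 h4 with h5 | h5
    · rw [h5, Nat.dvd_one] at h1
      exact h1
    · rw [h5] at h1 h2
      exact ((Nat.dvd_prime Nat.prime_two).1 h1).resolve_right h2
  subst h3
  exact kill_tits tab known h K hK

end Cfsg.Agent.H395.PF
end
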